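import Mathlib
import Groth.Prelude.Def_Neron
import Groth.Prelude.Def_Red
import Groth.Agent.WeilClosedLib.Transporter

/-!
# Schematic closures of subgroups of the generic fibre over a Dedekind domain
-/

set_option autoImplicit false
set_option backward.isDefEq.respectTransparency false
set_option linter.style.haveILetI false

universe u

open CategoryTheory CategoryTheory.Limits AlgebraicGeometry TopologicalSpace MonoidalCategory CartesianMonoidalCategory MonObj GrpObj

noncomputable section

namespace Groth.Agent.SchClosureLib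

variable (R : Type u) [CommRing R] [IsDedekindDomain R]

theorem mono_genPt : Mono (Neron.genPt R) :=
  ⟨fun {Z} a b h => by
    haveI : Epi (CommRingCat.ofHom (algebraMap R (FractionRing R))) :=
      ⟨fun {T} p q hpq => CommRingCat.hom_ext (IsLocalization.ringHom_ext (nonZeroDivisors R)
        (congrArg CommRingCat.Hom.hom hpq))⟩
    haveI : Mono (Spec.map (CommRingCat.ofHom (algebraMap R (FractionRing R)))) :=
      inferInstanceAs (Mono (Scheme.Spec.map (CommRingCat.ofHom (algebraMap R (FractionRing R))).op))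
    exact (cancel_mono (Spec.map (CommRingCat.ofHom (algebraMap R (FractionRing R))))).1 h⟩

theorem flat_genPt : Flat (Neron.genPt R) :=
  (HasRingHomProperty.Spec_iff (P := @Flat)).2 (RingHom.flat_algebraMap_iff.2 (IsLocalization.flat (FractionRing R) (nonZeroDivisors R)))

theorem std_genPt : IsSchemeTheoreticallyDominant (Neron.genPt R) := by
  haveI : IsDominant (Neron.genPt R) := by
    rw [isDominant_iff]
    refine (PrimeSpectrum.denseRange_comap_iff_ker_le_nilRadical _).2 ?_
    show RingHom.ker (algebraMap R (FractionRing R)) ≤ _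
    rw [(RingHom.injective_iff_ker_eq_bot _).1 (IsFractionRing.injective R (FractionRing R))]
    exact bot_le
  exact IsSchemeTheoreticallyDominant.of_isDominant _

theorem std_toImage {X Y : Scheme.{u}} (f : X ⟶ Y) [QuasiCompact f] : IsSchemeTheoreticallyDominant f.toImage := by
  refine ⟨Scheme.IdealSheafData.ext_of_iSup_eq_top (fun U : Y.affineOpens => ⟨f.imageι ⁻¹ᵁ U, U.2.preimage f.imageι⟩) ?_ fun U => ?_⟩
  · rw [← Scheme.Hom.preimage_iSup, iSup_affineOpens_eq_top Y]
    rfl
  · rw [Scheme.Hom.ker_apply, Scheme.IdealSheafData.ideal_bot]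
    exact (RingHom.injective_iff_ker_eq_bot _).1 (f.toImage_app_injective (U := U))

variable {R}
variable {H : Over (Spec (CommRingCat.of R))} {T : Scheme.{u}} (φ : T ⟶ H.left)
  (t : T ⟶ Spec (CommRingCat.of (FractionRing R))) (ht : φ ≫ H.hom = t ≫ Neron.genPt R)
  [IsSchemeTheoreticallyDominant φ] [QuasiCompact φ]

include ht in
/-- A scheme with schematically dense generic fibre is flat over a Dedekind domain. -/
theorem flat_of_dense : Flat H.hom := by
  refine IsZariskiLocalAtSource.of_openCover H.left.affineCover fun i => ?_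
  obtain ⟨ψ, hψ⟩ := Spec.map_surjective (H.left.affineCover.f i ≫ H.hom)
  rw [← hψ, HasRingHomProperty.Spec_iff (P := @Flat)]
  letI : Algebra R _ := ψ.hom.toAlgebra
  refine RingHom.flat_algebraMap_iff.2 (IsDedekindDomain.flat_iff_torsion_eq_bot.mpr
    (Submodule.isTorsionFree_iff_torsion_eq_bot.mp ⟨fun r hr => fun x y hxy => ?_⟩))
  have hr0 : r ≠ 0 := hr.ne_zero
  let p := pullback.snd φ (H.left.affineCover.f i)
  have hinj := p.app_injective ⊤
  let w : pullback φ (H.left.affineCover.f i) ⟶ Spec (CommRingCat.of (FractionRing R)) := pullback.fst _ _ ≫ t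
  have hw : p ≫ Spec.map ψ = w ≫ Neron.genPt R := by
    rw [hψ, ← Category.assoc, ← pullback.condition, Category.assoc, ht, ← Category.assoc]
  have hu : IsUnit (p.appTop ((Scheme.ΓSpecIso _).inv (ψ.hom r))) := by
    have h1 : p.appTop ((Scheme.ΓSpecIso _).inv (ψ.hom r)) =
        w.appTop ((Scheme.ΓSpecIso _).inv (algebraMap R (FractionRing R) r)) := by
      have h := congrArg (fun g : pullback φ (H.left.affineCover.f i) ⟶ Spec (CommRingCat.of R) => g.appTop ((Scheme.ΓSpecIso (CommRingCat.of R)).inv r)) hw
      simp only [Scheme.Hom.comp_appTop] at h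
      have e1 := ConcreteCategory.congr_hom (Scheme.ΓSpecIso_inv_naturality ψ) r
      have e2 := ConcreteCategory.congr_hom (Scheme.ΓSpecIso_inv_naturality (CommRingCat.ofHom (algebraMap R (FractionRing R)))) r
      exact (congrArg p.appTop e1).trans (h.trans (congrArg w.appTop e2).symm)
    rw [h1]
    exact ((IsUnit.mk0 _ ((map_ne_zero_iff _ (IsFractionRing.injective R (FractionRing R))).2 hr0)).map
      (Scheme.ΓSpecIso (CommRingCat.of (FractionRing R))).inv.hom).map w.appTop.hom
  have hxy' : ψ.hom r * x = ψ.hom r * y := hxy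
  have := congrArg (fun s => p.appTop ((Scheme.ΓSpecIso _).inv s)) hxy'
  simp only [map_mul] at this
  exact (ConcreteCategory.bijective_of_isIso (Scheme.ΓSpecIso _).inv).1 (hinj (hu.mul_left_cancel this))

theorem exists_subgroup (G : Over (Spec (CommRingCat.of R))) [GrpObj G]
    (HK : Over (Spec (CommRingCat.of (FractionRing R)))) [GrpObj HK]
    (i : HK ⟶ Red.bc (Neron.genPt R) G) [IsMonHom i] [IsClosedImmersion i.left] :
    ∃ (H : Over (Spec (CommRingCat.of R))) (_ : GrpObj H) (j : H ⟶ G) (φ : HK.left ⟶ H.left),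
      IsMonHom j ∧ IsClosedImmersion j.left ∧ Flat H.hom ∧
      IsPullback φ HK.hom H.hom (Neron.genPt R) ∧
      φ ≫ j.left = i.left ≫ pullback.fst G.hom (Neron.genPt R) ∧
      φ.ker = ⊥ := by
  haveI := mono_genPt R
  haveI := flat_genPt R
  haveI := std_genPt R
  let f : HK.left ⟶ G.left := i.left ≫ pullback.fst G.hom (Neron.genPt R)
  haveI : QuasiCompact (pullback.fst G.hom (Neron.genPt R)) := MorphismProperty.pullback_fst _ _ inferInstance
  haveI : QuasiCompact f := inferInstanceAs (QuasiCompact (i.left ≫ pullback.fst G.hom (Neron.genPt R)))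
  let H : Over (Spec (CommRingCat.of R)) := Over.mk (f.imageι ≫ G.hom)
  let j : H ⟶ G := Over.homMk f.imageι rfl
  haveI : IsClosedImmersion j.left := inferInstanceAs (IsClosedImmersion f.imageι)
  let φ : HK.left ⟶ H.left := f.toImage
  haveI : IsSchemeTheoreticallyDominant φ := std_toImage f
  haveI : QuasiCompact φ := inferInstanceAs (QuasiCompact f.toImage)
  have hφj : φ ≫ j.left = i.left ≫ pullback.fst G.hom (Neron.genPt R) := f.toImage_imageι
  have hcomm : φ ≫ H.hom = HK.hom ≫ Neron.genPt R := by
    show φ ≫ f.imageι ≫ G.hom = _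
    rw [← Category.assoc, Scheme.Hom.toImage_imageι, Category.assoc, pullback.condition, ← Category.assoc]
    exact congrArg (· ≫ Neron.genPt R) (Over.w i)
  haveI hflat : Flat H.hom := flat_of_dense φ HK.hom hcomm
  let l : HK.left ⟶ pullback H.hom (Neron.genPt R) := pullback.lift φ HK.hom hcomm
  let jK : pullback H.hom (Neron.genPt R) ⟶ pullback G.hom (Neron.genPt R) :=
    ((Over.pullback (Neron.genPt R)).map j).left
  have hl : l ≫ jK = i.left := by
    refine pullback.hom_ext ?_ ?_
    · simp [l, jK, hφj]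
    · simp [l, jK]
      exact (Over.w i).symm
  haveI : IsSeparated jK := inferInstance
  haveI : IsClosedImmersion l := by
    haveI : IsClosedImmersion (l ≫ jK) := hl ▸ inferInstance
    exact IsClosedImmersion.of_comp l jK
  haveI : IsIso l := by
    let pr := pullback.fst H.hom (Neron.genPt R)
    haveI : Mono pr := inferInstance
    haveI : Flat pr := MorphismProperty.pullback_fst _ _ inferInstance
    have hsq : IsPullback (𝟙 HK.left) l φ pr := ⟨⟨by simp [l, pr]⟩, ⟨PullbackCone.IsLimit.mk _ (fun s => s.fst)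
      (fun s => Category.comp_id _) (fun s => (cancel_mono pr).1 (by simp [l, pr, s.condition]))
      (fun s m h1 _ => by simpa using h1)⟩⟩
    exact IsClosedImmersion.isIso_iff_ker_eq_bot.2 (IsSchemeTheoreticallyDominant.of_isPullback hsq).ker_eq_bot
  have hpb : IsPullback φ HK.hom H.hom (Neron.genPt R) :=
    IsPullback.of_iso_pullback ⟨hcomm⟩ (asIso l) (by simp [l]) (by simp [l])
  have hlift : ∀ (W : Over (Spec (CommRingCat.of R))) (g : W ⟶ G) (gK : (Over.pullback (Neron.genPt R)).obj W ⟶ HK),
      Flat W.hom → gK ≫ i = (Over.pullback (Neron.genPt R)).map g → ∃ c : W ⟶ H, c ≫ j = g := fun W g gK hW hg => by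
    let q : pullback W.hom (Neron.genPt R) ⟶ W.left := pullback.fst _ _
    haveI : IsSchemeTheoreticallyDominant q := IsSchemeTheoreticallyDominant.pullbackFst _ _
    have hq : q ≫ g.left = (gK.left ≫ φ) ≫ j.left := by
      have h := congrArg (fun m : (Over.pullback (Neron.genPt R)).obj W ⟶ (Over.pullback (Neron.genPt R)).obj G =>
        m.left ≫ pullback.fst G.hom (Neron.genPt R)) hg
      simp only [Over.comp_left, Category.assoc] at h
      rw [Category.assoc, hφj]
      exact ((h.trans (pullback.lift_fst _ _ _))).symm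
    haveI : IsClosedImmersion (pullback.fst g.left j.left) := MorphismProperty.pullback_fst _ _ inferInstance
    haveI : IsIso (pullback.fst g.left j.left) := by
      refine IsClosedImmersion.isIso_iff_ker_eq_bot.2 (le_bot_iff.1 ?_)
      refine ((pullback.lift q (gK.left ≫ φ) hq).le_ker_comp (pullback.fst g.left j.left)).trans (le_of_eq ?_)
      rw [pullback.lift_fst]
      exact q.ker_eq_bot
    let c := inv (pullback.fst g.left j.left) ≫ pullback.snd g.left j.left
    have hc : c ≫ j.left = g.left := by simp [c, ← pullback.condition]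
    exact ⟨Over.homMk c (by rw [← Over.w j, ← Category.assoc, hc, Over.w g]), Over.OverMorphism.ext hc⟩
  let lH : (Over.pullback (Neron.genPt R)).obj H ⟶ HK :=
    Over.homMk (inv l) (by rw [IsIso.inv_comp_eq]; simp [l])
  have hlH : lH ≫ i = (Over.pullback (Neron.genPt R)).map j := by
    ext1
    show inv l ≫ i.left = jK
    rw [← hl, IsIso.inv_hom_id_assoc]
  haveI : Mono j := Over.mono_of_mono_left j
  haveI : Flat (H ⊗ H).hom := inferInstanceAs (Flat (pullback.fst H.hom H.hom ≫ H.hom))
  haveI : Flat (𝟙_ (Over (Spec (CommRingCat.of R)))).hom := inferInstanceAs (Flat (𝟙 (Spec (CommRingCat.of R))))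
  obtain ⟨μ', hμ'⟩ := hlift (H ⊗ H) ((fst H H ≫ j) * (snd H H ≫ j))
    (((Over.pullback (Neron.genPt R)).map (fst H H) ≫ lH) * ((Over.pullback (Neron.genPt R)).map (snd H H) ≫ lH)) inferInstance (by
      rw [MonObj.mul_comp, Category.assoc, Category.assoc, hlH, Functor.map_mul, Functor.map_comp, Functor.map_comp])
  obtain ⟨ν, hν⟩ := hlift H j⁻¹ lH⁻¹ hflat (by
    rw [GrpObj.inv_comp, hlH]
    exact (map_inv (Functor.homMonoidHom (Over.pullback (Neron.genPt R))) j).symm)
  obtain ⟨one', hone⟩ := hlift (𝟙_ _) 1 1 inferInstance (by rw [MonObj.one_comp, Functor.map_one])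
  obtain ⟨str, hstr⟩ := WeilClosedLib.exists_grpObj_of_closed j
    ⟨one', by rw [hone, Hom.one_def, toUnit_unique (toUnit _) (𝟙 _), Category.id_comp]⟩
    (fun W a b => ⟨lift a b ≫ μ', by
      rw [Category.assoc, hμ', MonObj.comp_mul, ← Category.assoc, ← Category.assoc, lift_fst, lift_snd]⟩)
    (fun W a => ⟨a ≫ ν, by rw [Category.assoc, hν, GrpObj.comp_inv]⟩)
  exact ⟨H, str, j, φ, hstr, inferInstance, hflat, hpb, hφj, φ.ker_eq_bot⟩

end Groth.Agent.SchClosureLib
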